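import Mathlib

set_option autoImplicit false

open DirectSum

namespace Groth.Agent.GrSmooth

universe u
variable {A B : Type u} [CommRing A] [CommRing B] [Algebra A B]
  (𝒜 : ℕ → Submodule A B) [GradedAlgebra 𝒜]

/-- Degree `d` projection. -/
noncomputable def pr (d : ℕ) : B →ₗ[A] B :=
  (𝒜 d).subtype ∘ₗ DirectSum.component A ℕ (fun i => 𝒜 i) d ∘ₗ
    (decomposeLinearEquiv 𝒜).toLinearMap

theorem pr_apply (d : ℕ) (x : B) : pr 𝒜 d x = (decompose 𝒜 x d : B) := rfl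

theorem pr_mem (d : ℕ) (x : B) : pr 𝒜 d x ∈ 𝒜 d := (decompose 𝒜 x d).2

theorem pr_of_mem {d : ℕ} {x : B} (h : x ∈ 𝒜 d) : pr 𝒜 d x = x := decompose_of_mem_same 𝒜 h

theorem pr_of_mem_ne {d e : ℕ} {x : B} (h : x ∈ 𝒜 e) (hne : e ≠ d) : pr 𝒜 d x = 0 :=
  decompose_of_mem_ne 𝒜 h hne

theorem exists_sum_pr (x : B) : ∃ D : Finset ℕ, (∀ d ∉ D, pr 𝒜 d x = 0) ∧ ∑ d ∈ D, pr 𝒜 d x = x := by
  classical
  refine ⟨(decompose 𝒜 x).support, fun d hd => ?_, sum_support_decompose 𝒜 x⟩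
  rw [pr_apply, DFinsupp.notMem_support_iff.mp hd, ZeroMemClass.coe_zero]

theorem mem_irrelevant_iff_pr (x : B) :
    x ∈ (HomogeneousIdeal.irrelevant 𝒜).toIdeal ↔ pr 𝒜 0 x = 0 :=
  (HomogeneousIdeal.mem_irrelevant_iff 𝒜 x).trans (by rw [GradedRing.proj_apply, pr_apply])

theorem pr_mem_of_mem {I : Ideal B} (hI : I.IsHomogeneous 𝒜) {x : B} (hx : x ∈ I) (d : ℕ) :
    pr 𝒜 d x ∈ I := hI d hx

theorem exists_gens (h0 : ∀ b : B, b ∈ 𝒜 0 ↔ b ∈ Set.range (algebraMap A B)) {n : ℕ}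
    (e : Module.Basis (Fin n) A (HomogeneousIdeal.irrelevant 𝒜).toIdeal.Cotangent) :
    ∃ b : Fin n → B, (∀ i, b i ∈ (HomogeneousIdeal.irrelevant 𝒜).toIdeal) ∧
      Algebra.adjoin A (Set.range b) = ⊤ ∧
      ∀ a : Fin n → A, ∑ i, a i • b i ∈ (HomogeneousIdeal.irrelevant 𝒜).toIdeal ^ 2 → a = 0 := by
  classical
  set J := (HomogeneousIdeal.irrelevant 𝒜).toIdeal with hJ
  have hJh : J.IsHomogeneous 𝒜 := (HomogeneousIdeal.irrelevant 𝒜).isHomogeneous
  have hJ2 : (J ^ 2).IsHomogeneous 𝒜 := by rw [pow_two]; exact hJh.mul hJh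
  choose l hl using fun i => J.toCotangent_surjective (e i)
  have hsum : ∀ a : Fin n → A, J.toCotangent (∑ i, a i • l i) = ∑ i, a i • e i := by
    intro a
    rw [map_sum]
    refine Finset.sum_congr rfl fun i _ => ?_
    rw [← IsScalarTower.algebraMap_smul B, map_smul, hl, IsScalarTower.algebraMap_smul]
  have h2 : ∀ a : Fin n → A, ∑ i, a i • (l i : B) ∈ J ^ 2 → a = 0 := by
    intro a ha
    have h3 : J.toCotangent (∑ i, a i • l i) = 0 := by
      rw [Ideal.toCotangent_eq_zero]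
      simpa using ha
    rw [hsum] at h3
    exact funext fun i => Fintype.linearIndependent_iff.mp e.linearIndependent a h3 i
  have h1 : ∀ y ∈ J, ∃ c : Fin n → A, y - ∑ i, c i • (l i : B) ∈ J ^ 2 := by
    intro y hy
    refine ⟨fun i => e.repr (J.toCotangent ⟨y, hy⟩) i, ?_⟩
    have := (hsum fun i => e.repr (J.toCotangent ⟨y, hy⟩) i).trans
      (e.sum_repr (J.toCotangent ⟨y, hy⟩))
    have h3 := (J.toCotangent_eq).mp this.symm
    simpa using h3
  choose D hD hDs using fun i => exists_sum_pr 𝒜 (l i : B)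
  let DD := Finset.univ.biUnion D
  choose c hc using fun (d : ℕ) (i : Fin n) =>
    h1 (pr 𝒜 d (l i : B)) (pr_mem_of_mem 𝒜 hJh (l i).2 d)
  let b : Fin n → B := fun i => ∑ d ∈ DD, pr 𝒜 d (∑ j, c d i j • (l j : B))
  have hb : ∀ i, b i - l i ∈ J ^ 2 := by
    intro i
    have hs : ∑ d ∈ DD, pr 𝒜 d (pr 𝒜 d (l i : B)) = l i := by
      have hpp : ∀ d, pr 𝒜 d (pr 𝒜 d (l i : B)) = pr 𝒜 d (l i) := fun d =>
        pr_of_mem 𝒜 (pr_mem 𝒜 d _)
      simp only [hpp]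
      exact (Finset.sum_subset (Finset.subset_biUnion_of_mem D (Finset.mem_univ i))
        fun d _ hd => hD i d hd).symm.trans (hDs i)
    rw [← hs, ← Finset.sum_sub_distrib]
    refine sum_mem fun d _ => ?_
    rw [← map_sub, ← neg_sub, map_neg]
    exact neg_mem (pr_mem_of_mem 𝒜 hJ2 (hc d i) d)
  have hbJ : ∀ i, b i ∈ J := fun i => by
    have h := add_mem (Ideal.pow_le_self (by omega : 2 ≠ 0) (hb i)) (l i).2
    rwa [sub_add_cancel] at h
  have hcong : ∀ a : Fin n → A, ∑ i, a i • b i - ∑ i, a i • (l i : B) ∈ J ^ 2 := by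
    intro a
    rw [← Finset.sum_sub_distrib]
    exact sum_mem fun i _ => by rw [← smul_sub]; exact Submodule.smul_of_tower_mem _ _ (hb i)
  refine ⟨b, hbJ, ?_, fun a ha => h2 a ?_⟩
  swap
  · have := sub_mem ha (hcong a)
    rwa [sub_sub_cancel] at this
  rw [eq_top_iff]
  set S := Algebra.adjoin A (Set.range b)
  suffices hd : ∀ d y, y ∈ 𝒜 d → y ∈ S by
    intro x _
    obtain ⟨D', -, hx⟩ := exists_sum_pr 𝒜 x
    rw [← hx]
    exact sum_mem fun d _ => hd d _ (pr_mem 𝒜 d x)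
  intro d
  induction d using Nat.strong_induction_on with
  | _ d ih =>
  intro y hy
  rcases Nat.eq_zero_or_pos d with rfl | hpos
  · obtain ⟨a, rfl⟩ := (h0 y).mp hy
    exact S.algebraMap_mem a
  have hyJ : y ∈ J := HomogeneousIdeal.mem_irrelevant_of_mem 𝒜 hpos hy
  have hsq : ∀ z ∈ J ^ 2, pr 𝒜 d z ∈ S := by
    intro z hz
    rw [pow_two] at hz
    induction hz using Submodule.mul_induction_on' with
    | mem_mul_mem u hu v hv =>
      obtain ⟨Du, -, hu'⟩ := exists_sum_pr 𝒜 u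
      obtain ⟨Dv, -, hv'⟩ := exists_sum_pr 𝒜 v
      rw [← hu', ← hv', Finset.sum_mul_sum, map_sum]
      refine sum_mem fun p _ => ?_
      rw [map_sum]
      refine sum_mem fun q _ => ?_
      rcases Nat.eq_zero_or_pos p with rfl | hp
      · rw [(mem_irrelevant_iff_pr 𝒜 u).mp hu, zero_mul, map_zero]
        exact zero_mem _
      rcases Nat.eq_zero_or_pos q with rfl | hq
      · rw [(mem_irrelevant_iff_pr 𝒜 v).mp hv, mul_zero, map_zero]
        exact zero_mem _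
      have hpq := SetLike.mul_mem_graded (pr_mem 𝒜 p u) (pr_mem 𝒜 q v)
      rcases eq_or_ne (p + q) d with h | h
      · rw [pr_of_mem 𝒜 (h ▸ hpq)]
        exact mul_mem (ih p (by omega) _ (pr_mem 𝒜 p u)) (ih q (by omega) _ (pr_mem 𝒜 q v))
      · rw [pr_of_mem_ne 𝒜 hpq h]
        exact zero_mem _
    | add x _ y _ hx hy => rw [map_add]; exact add_mem hx hy
  obtain ⟨c', hc'⟩ := h1 y hyJ
  let κ : ℕ → Fin n → A := fun d' j => ∑ i, c' i * c d' i j
  have hκ : ∀ d', pr 𝒜 d' y - ∑ j, κ d' j • (l j : B) ∈ J ^ 2 := by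
    intro d'
    have e1 := pr_mem_of_mem 𝒜 hJ2 hc' d'
    have e2 : ∑ i, c' i • (pr 𝒜 d' (l i : B) - ∑ j, c d' i j • (l j : B)) ∈ J ^ 2 :=
      sum_mem fun i _ => Submodule.smul_of_tower_mem _ _ (hc d' i)
    convert add_mem e1 e2 using 1
    simp only [map_sub, map_sum, map_smul, smul_sub, Finset.sum_sub_distrib, Finset.smul_sum,
      smul_smul, κ, Finset.sum_smul]
    rw [Finset.sum_comm]
    abel
  have hκ0 : ∀ d', d' ≠ d → κ d' = 0 := by
    intro d' hne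
    refine h2 _ ?_
    have := neg_mem (hκ d')
    rwa [pr_of_mem_ne 𝒜 hy hne.symm, zero_sub, neg_neg] at this
  by_cases hdD : d ∈ DD
  · have hsumb : ∑ i, c' i • b i = pr 𝒜 d (∑ j, κ d j • (l j : B)) := by
      have : ∑ i, c' i • b i = ∑ d' ∈ DD, pr 𝒜 d' (∑ j, κ d' j • (l j : B)) := by
        simp only [b, κ, Finset.smul_sum, map_sum, map_smul, Finset.sum_smul, smul_smul]
        rw [Finset.sum_comm]
        exact Finset.sum_congr rfl fun d' _ => Finset.sum_comm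
      rw [this, Finset.sum_eq_single_of_mem d hdD]
      intro d' _ hne
      simp [hκ0 d' hne]
    have hz := hsq _ (hκ d)
    rw [map_sub, pr_of_mem 𝒜 (pr_mem 𝒜 d y), pr_of_mem 𝒜 hy, ← hsumb] at hz
    have := add_mem hz (sum_mem (t := Finset.univ) fun i _ =>
      S.smul_mem (Algebra.subset_adjoin ⟨i, rfl⟩) (c' i))
    rwa [sub_add_cancel] at this
  · have hl0 : ∀ i, pr 𝒜 d (l i : B) = 0 := fun i => hD i d fun h =>
      hdD (Finset.mem_biUnion.mpr ⟨i, Finset.mem_univ i, h⟩)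
    have hz := hsq _ hc'
    simpa [map_sub, map_sum, map_smul, hl0, pr_of_mem 𝒜 hy] using hz

end Groth.Agent.GrSmooth
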