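import Mathlib

set_option autoImplicit false

open MvPolynomial

namespace Groth.Agent.GrSmooth

universe u
variable {A : Type u} [CommRing A] {n : ℕ}

local notation "P" => MvPolynomial (Fin n) A
local notation "IP" => idealOfVars (Fin n) A

theorem aeval_add_eq_of_mem_sq {Q : Type u} [CommRing Q] [Algebra A Q] (ι : P →ₐ[A] Q)
    (N : Ideal Q) (δ : Fin n → Q) (hδ : ∀ i, δ i ∈ N) (hNN : ∀ x ∈ N, ∀ y ∈ N, x * y = 0)
    (hxN : ∀ i, ∀ x ∈ N, ι (X i) * x = 0) {f : P} (hf : f ∈ IP ^ 2) :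
    aeval (fun i => ι (X i) + δ i) f = ι f := by
  have hmod : ∀ g : P, aeval (fun i => ι (X i) + δ i) g - ι g ∈ N := by
    intro g
    induction g using MvPolynomial.induction_on with
    | C a => simp
    | add g h hg hh =>
      rw [map_add, map_add, add_sub_add_comm]
      exact add_mem hg hh
    | mul_X g i hg =>
      rw [map_mul, map_mul, aeval_X]
      have : (aeval fun i => ι (X i) + δ i) g * (ι (X i) + δ i) - ι g * ι (X i) =
          ((aeval fun i => ι (X i) + δ i) g - ι g) * ι (X i) +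
            (aeval fun i => ι (X i) + δ i) g * δ i := by ring
      rw [this]
      exact add_mem (N.mul_mem_right _ hg) (N.mul_mem_left _ (hδ i))
  have hIN : ∀ g ∈ IP, ∀ x ∈ N, ι g * x = 0 := by
    intro g hg x hx
    induction hg using Submodule.span_induction with
    | mem g hg => obtain ⟨i, rfl⟩ := hg; exact hxN i x hx
    | zero => simp
    | add g h _ _ hg hh => rw [map_add, add_mul, hg, hh, add_zero]
    | smul c g _ hg => rw [smul_eq_mul, map_mul, mul_assoc, hg, mul_zero]
  rw [pow_two] at hf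
  induction hf using Submodule.mul_induction_on' with
  | mem_mul_mem g hg h hh =>
    obtain ⟨m, hm, hgm⟩ : ∃ m ∈ N, aeval (fun i => ι (X i) + δ i) g = ι g + m :=
      ⟨_, hmod g, (add_sub_cancel _ _).symm⟩
    obtain ⟨m', hm', hhm⟩ : ∃ m ∈ N, aeval (fun i => ι (X i) + δ i) h = ι h + m :=
      ⟨_, hmod h, (add_sub_cancel _ _).symm⟩
    rw [map_mul, map_mul, hgm, hhm, add_mul, mul_add, mul_add, hNN m hm m' hm', mul_comm m,
      hIN g hg m' hm', hIN h hh m hm, add_zero, add_zero, add_zero]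
  | add g _ h _ hg hh => rw [map_add, map_add, hg, hh]

theorem exists_lift_away {B C : Type u} [CommRing B] [CommRing C] [Algebra A B] [Algebra A C]
    (N : Ideal C) (hN : IsNilpotent N) (g : B) [Algebra.FormallySmooth A (Localization.Away g)]
    (β₀ : B →ₐ[A] C ⧸ N) (hu : IsUnit (β₀ g)) :
    ∃ τ : B →ₐ[A] C, ∀ b, Ideal.Quotient.mk N (τ b) = β₀ b := by
  have hg : IsUnit (β₀.toRingHom g) := hu
  let β' : Localization.Away g →+* C ⧸ N := IsLocalization.Away.lift g hg
  have hβ' : ∀ b, β' (algebraMap B (Localization.Away g) b) = β₀ b := fun b =>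
    IsLocalization.Away.lift_eq g hg b
  let β : Localization.Away g →ₐ[A] C ⧸ N := AlgHom.mk' β' fun c x => by
    rw [Algebra.smul_def, map_mul, Algebra.smul_def,
      IsScalarTower.algebraMap_apply A B (Localization.Away g), hβ', AlgHom.commutes]
  refine ⟨(Algebra.FormallySmooth.lift N hN β).comp
    (IsScalarTower.toAlgHom A B (Localization.Away g)), fun b => ?_⟩
  exact (Algebra.FormallySmooth.mk_lift N hN β _).trans (hβ' b)

theorem exists_desc {B C : Type u} [CommRing B] [CommRing C] [Algebra A B] [Algebra A C]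
    (π : P →ₐ[A] B) (hsurj : Function.Surjective π) (φ : P →ₐ[A] C)
    (hφ : ∀ x ∈ RingHom.ker π, φ x = 0) : ∃ β₀ : B →ₐ[A] C, ∀ x, β₀ (π x) = φ x := by
  refine ⟨(Ideal.Quotient.liftₐ (RingHom.ker π) φ hφ).comp
    (Ideal.quotientKerAlgEquivOfSurjective hsurj).symm.toAlgHom, fun x => ?_⟩
  have : (Ideal.quotientKerAlgEquivOfSurjective hsurj).symm (π x) = Ideal.Quotient.mk _ x := by
    rw [AlgEquiv.symm_apply_eq]
    rfl
  simp only [AlgHom.comp_apply, AlgEquiv.coe_toAlgHom, this]
  rfl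

/-- If `P → B` is onto, its kernel lies in `IP ^ 2`, and `B` is smooth near the origin, then the
kernel is killed by passing to `IP * K`. -/
theorem ker_le_mul {B : Type u} [CommRing B] [Algebra A B] (π : P →ₐ[A] B)
    (hsurj : Function.Surjective π) (hK : RingHom.ker π ≤ IP ^ 2) (h : P)
    (hh : 1 - h ∈ IP) [Algebra.FormallySmooth A (Localization.Away (π h))] :
    RingHom.ker π ≤ IP * RingHom.ker π := by
  let M : Ideal P := IP * RingHom.ker π
  let Ph := Localization.Away h
  let Q := Ph ⧸ M.map (algebraMap P Ph)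
  let ι : P →ₐ[A] Q := (Ideal.Quotient.mkₐ A _).comp (IsScalarTower.toAlgHom A P Ph)
  let N : Ideal Q := (RingHom.ker π).map ι.toRingHom
  have hιM : ∀ x ∈ M, ι x = 0 := fun x hx =>
    Ideal.Quotient.eq_zero_iff_mem.mpr (Ideal.mem_map_of_mem _ hx)
  have hxN : ∀ g ∈ IP, ∀ x ∈ N, ι g * x = 0 := by
    intro g hg x hx
    induction hx using Submodule.span_induction with
    | mem y hy =>
      obtain ⟨z, hz, rfl⟩ := hy
      exact (map_mul ι g z).symm.trans (hιM _ (Ideal.mul_mem_mul hg hz))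
    | zero => simp
    | add y z _ _ hy hz => rw [mul_add, hy, hz, add_zero]
    | smul c y _ hy => rw [smul_eq_mul, mul_left_comm, hy, mul_zero]
  have hKIP : RingHom.ker π ≤ IP := hK.trans (Ideal.pow_le_self (by omega))
  have hNN : ∀ x ∈ N, ∀ y ∈ N, x * y = 0 := by
    intro x hx y hy
    induction hx using Submodule.span_induction with
    | mem z hz =>
      obtain ⟨w, hw, rfl⟩ := hz
      exact hxN w (hKIP hw) y hy
    | zero => simp
    | add z w _ _ hz hw => rw [add_mul, hz, hw, add_zero]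
    | smul c z _ hz => rw [smul_eq_mul, mul_assoc, hz, mul_zero]
  have hNnil : IsNilpotent N := ⟨2, by
    refine (sq N).trans ?_
    rw [Ideal.zero_eq_bot, eq_bot_iff, Ideal.mul_le]
    exact fun x hx y hy => (Submodule.mem_bot _).mpr (hNN x hx y hy)⟩
  obtain ⟨β₀, hβ₀⟩ := exists_desc (C := Q ⧸ N) π hsurj ((Ideal.Quotient.mkₐ A N).comp ι)
    (fun x hx => Ideal.Quotient.eq_zero_iff_mem.mpr (Ideal.mem_map_of_mem ι.toRingHom hx))
  have hu : IsUnit (β₀ (π h)) := by
    rw [hβ₀]
    have h1 : IsUnit (ι h) :=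
      IsUnit.map (Ideal.Quotient.mk (M.map (algebraMap P Ph)))
        (IsLocalization.Away.algebraMap_isUnit (S := Ph) h)
    exact h1.map (Ideal.Quotient.mk N)
  obtain ⟨τ, hτ'⟩ := exists_lift_away N hNnil (π h) β₀ hu
  have hτ : ∀ x, Ideal.Quotient.mk N (τ (π x)) = Ideal.Quotient.mk N (ι x) := fun x =>
    (hτ' (π x)).trans (hβ₀ x)
  intro k hk
  let δ : Fin n → Q := fun i => τ (π (X i)) - ι (X i)
  have hδ : ∀ i, δ i ∈ N := fun i => Ideal.Quotient.eq.mp (hτ (X i))
  have heval : aeval (fun i => ι (X i) + δ i) = τ.comp π := by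
    ext i
    simp [δ]
  have hι : ι k = 0 := by
    rw [← aeval_add_eq_of_mem_sq ι N δ hδ hNN (fun i => hxN _ (Ideal.subset_span ⟨i, rfl⟩)) (hK hk),
      heval, AlgHom.comp_apply, RingHom.mem_ker.mp hk, map_zero]
  obtain ⟨⟨a, m⟩, ham⟩ := (IsLocalization.mem_map_algebraMap_iff (Submonoid.powers h) Ph).mp
    (Ideal.Quotient.eq_zero_iff_mem.mp hι)
  change algebraMap P Ph k * algebraMap P Ph m = algebraMap P Ph a at ham
  rw [← map_mul, IsLocalization.eq_iff_exists (Submonoid.powers h)] at ham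
  obtain ⟨⟨_, j, rfl⟩, hj⟩ := ham
  obtain ⟨i, hi⟩ := m.2
  have hmem : k * h ^ (j + i) ∈ M := by
    have : h ^ j * (k * (m : P)) ∈ M := by
      rw [show h ^ j * (k * (m : P)) = h ^ j * (a : P) from hj]
      exact M.mul_mem_left _ a.2
    rw [← hi] at this
    rwa [show k * h ^ (j + i) = h ^ j * (k * h ^ i) by rw [pow_add]; ring]
  have h1 : 1 - h ^ (j + i) ∈ IP := by
    rw [← Ideal.Quotient.eq, map_one] at hh ⊢
    rw [map_pow, ← hh, one_pow]
  have := add_mem hmem (Ideal.mul_mem_mul h1 hk)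
  rwa [show k * h ^ (j + i) + (1 - h ^ (j + i)) * k = k by ring] at this

end Groth.Agent.GrSmooth
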